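import Cfsg.Agent.Lib.Comp.XA.Base

set_option maxRecDepth 100000
set_option Elab.async false

namespace Cfsg.Lib.Comp.XA

universe u

noncomputable def T1_R : List (List ℕ × ℕ) := [([1],3),
 ([1,1,4,4],0),
 ([1,1,6,6],0),
 ([1,1,8,8],0),
 ([1,3,1,4],0),
 ([5,7,5,8],0),
 ([1,5,2,6],0),
 ([1,7,2,8],0),
 ([3,5,4,6],0),
 ([3,7,4,8],0),
 ([9],2),
 ([9,1,10,4],0),
 ([9,3,10,4,2],0),
 ([9,5,10,8],0),
 ([9,7,10,8,6],0),
 ([1,2],0),
 ([3,4],0),
 ([5,6],0),
 ([7,8],0),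
 ([9,10],0)]

noncomputable def T1_n_1 : Net :=
 (Net.cons 48 (nat_lit 0xbead23035fd6)
 (Net.cons 24 (nat_lit 0xea870c0000005c6a20)
 (Net.cons 12 (nat_lit 0xdf0000fa200010e000d98)
 (Net.cons 6 (nat_lit 0x2000803c02001803201a020)
 (Net.cons 3 (nat_lit 0x6000180004006000000184)
 (Net.cons 1 (nat_lit 0x41209208008001201241009)
 (Net.cons 1 (nat_lit 0x402492482402492002092090)
 (Net.cons 1 (nat_lit 0x200201200201248001000040)
 (Net.cons 3 (nat_lit 0x1040060471471811811c2041)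
 (Net.cons 6 (nat_lit 0x20002032008030036023019)
 (Net.cons 12 (nat_lit 0x808000b4f00082d000f59)
 (Net.cons 24 (nat_lit 0xa242b3000000bc5ed9)
 (Net.cons 48 (nat_lit 0x1cdc16a79dcd)
 Net.nil)))))))))))))

noncomputable def T1_n_3 : Net :=
 (Net.cons 48 (nat_lit 0x402f3a1acfb0)
 (Net.cons 24 (nat_lit 0x500b540000000e9a80)
 (Net.cons 12 (nat_lit 0x942000592000a6c0008f6)
 (Net.cons 6 (nat_lit 0x2003401800000403800002c)
 (Net.cons 3 (nat_lit 0x106006000084000004000004)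
 (Net.cons 1 (nat_lit 0x41200041049249009241208)
 (Net.cons 1 (nat_lit 0x402082480012492492092410)
 (Net.cons 1 (nat_lit 0x41000008241248000208)
 (Net.cons 3 (nat_lit 0x1871461830870811c0140005)
 (Net.cons 6 (nat_lit 0x2203900b012000016000004)
 (Net.cons 12 (nat_lit 0x3ba00047d000a8f0005c0)
 (Net.cons 24 (nat_lit 0x82a5d10000001c4185)
 (Net.cons 48 (nat_lit 0xbfd04778c091)
 Net.nil)))))))))))))

noncomputable def T1_n_5 : Net :=
 (Net.cons 48 (nat_lit 0xecd6200bc62)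
 (Net.cons 24 (nat_lit 0x4080620000007b5e1c)
 (Net.cons 12 (nat_lit 0xdd8000000000624000e40)
 (Net.cons 6 (nat_lit 0x1c00802801201201e00a026)
 (Net.cons 3 (nat_lit 0x180006102106104182000100)
 (Net.cons 1 (nat_lit 0x209201209001041200240009)
 (Net.cons 1 (nat_lit 0x492090402492092090410092)
 (Net.cons 1 (nat_lit 0x209040201041008008000009)
 (Net.cons 3 (nat_lit 0x60c40420031c01070c6184)
 (Net.cons 6 (nat_lit 0x702201101800500f010007)
 (Net.cons 12 (nat_lit 0x205000d3f000e82000e01)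
 (Net.cons 24 (nat_lit 0xc04a23000000fee5d4)
 (Net.cons 48 (nat_lit 0x7c6d1f2e7ac3)
 Net.nil)))))))))))))

noncomputable def T1_n_7 : Net :=
 (Net.cons 48 (nat_lit 0x55225f18a49a)
 (Net.cons 24 (nat_lit 0x30bff000000062b9f8)
 (Net.cons 12 (nat_lit 0xb680003f8000180000192)
 (Net.cons 6 (nat_lit 0x2801200003403c000010030)
 (Net.cons 3 (nat_lit 0x2080180186082100106002)
 (Net.cons 1 (nat_lit 0x201208000209048249201041)
 (Net.cons 1 (nat_lit 0x412002402490492412092410)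
 (Net.cons 1 (nat_lit 0x200001200048009008048000)
 (Net.cons 3 (nat_lit 0xc21061870011c20431c11c4)
 (Net.cons 6 (nat_lit 0x1f02f03e02202603103701e)
 (Net.cons 12 (nat_lit 0x5200005ff000c13000969)
 (Net.cons 24 (nat_lit 0xead9bd0000005c6b13)
 (Net.cons 48 (nat_lit 0xa922277d9858)
 Net.nil)))))))))))))

noncomputable def T1_n_9 : Net :=
 (Net.cons 48 (nat_lit 0x951da22646cc)
 (Net.cons 24 (nat_lit 0x630224000000feb228)
 (Net.cons 12 (nat_lit 0x24000018c000f920004c2)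
 (Net.cons 6 (nat_lit 0x1001801802801c02c)
 (Net.cons 3 (nat_lit 0x104086086082180102000080)
 (Net.cons 1 (nat_lit 0x49200209201208201201048)
 (Net.cons 1 (nat_lit 0x490482490490092412492490)
 (Net.cons 1 (nat_lit 0x200241048240001209048008)
 (Net.cons 3 (nat_lit 0x411c50440801070031c2081)
 (Net.cons 6 (nat_lit 0x100400102c02200203900a)
 (Net.cons 12 (nat_lit 0x58800022c000660000904)
 (Net.cons 24 (nat_lit 0x94544c000000f84452)
 (Net.cons 48 (nat_lit 0x583e855b9c55)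
 Net.nil)))))))))))))

noncomputable def T1_n : List Net := [Net.nil,
 T1_n_1,
 Net.rev T1_n_1,
 T1_n_3,
 Net.rev T1_n_3,
 T1_n_5,
 Net.rev T1_n_5,
 T1_n_7,
 Net.rev T1_n_7,
 T1_n_9,
 Net.rev T1_n_9]

theorem T1_n_ok : NetsOK 96 T1_n := netsOK_of (by decide +kernel)

theorem T1_n_rel : Rels (gp T1_n) T1_R := rels_of_relsB (k := 7) T1_n_ok (by norm_num) (by decide +kernel)

theorem T1_fin : finB 96 T1_n [1,2,3,4,5,6,7,8,9,10] 96 (runH 96 T1_n (fun x p => ptInv (nth Net.nil T1_n x) p) iv T1_R [] ([].map fun x => [x]) 0 []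
  [60,64,68,72,76,0,4,8,12,16,20,24,28,32,36,40,44,48,52,56,60,64,68,72,76,0,4,8,12,16,20,24,28,32,36,44,48,52,56,60,64,68,72,76,0,4,8,12,16,20,24,28]
  (defsH 96 T1_n (ones 1152) [1,2,3,4,5,6,7,8,9,10,1] (Nat.shiftLeft 1 0) 0)) = true := by decide +kernel

theorem T1_idx : Idx.{u} iv (T1_R ++ []) ([].map fun x => [x]) [1,2,3,4,5,6,7,8,9,10] 96 :=
  Reach.idx T1_n_ok (reach_runH T1_n_ok (fun x p _ => ptInv_gp T1_n_ok x p) T1_n_rel (reach_defsH T1_n_ok _ _ _ _ _ _) _ _) T1_fin (by norm_num)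

end Cfsg.Lib.Comp.XA
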